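import Groth.Agent.AGF80.StabDim
import Groth.Prelude.Def_GLinSh

/-! The stabiliser of a point valued in any scheme is the pullback of the stabiliser scheme. -/

set_option autoImplicit false
set_option backward.isDefEq.respectTransparency.types false

universe u

open CategoryTheory Limits MonoidalCategory CartesianMonoidalCategory MonObj AlgebraicGeometry
open Groth.Agent.H98EqInt (stToX stIncl st_cond)

noncomputable section

namespace Groth.Agent.GIT36.Stab

variable {S : Scheme.{u}} {G X P : Over S} [GrpObj G] (a : AlgGrp.Action G X) (f : P ⟶ X)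

theorem psi_fst : (GIT.psi a f).left ≫ (fst X P).left = (G ◁ f).left ≫ a.act.left := by
  rw [← Over.comp_left, ← Over.comp_left, GIT.psi, lift_fst]

theorem psi_snd : (GIT.psi a f).left ≫ (snd X P).left = (snd G P).left := by
  rw [← Over.comp_left, GIT.psi, lift_snd]

/-- The stabiliser inside `G × P`. -/
abbrev stGP : GLinSh.stab a f ⟶ (G ⊗ P).left :=
  pullback.fst (GIT.psi a f).left (lift f (𝟙 P)).left

theorem stGP_act : stGP a f ≫ (G ◁ f).left ≫ a.act.left = GLinSh.stabTo a f ≫ f.left := by
  have h := congrArg (· ≫ (fst X P).left) (pullback.condition (f := (GIT.psi a f).left) (g := (lift f (𝟙 P)).left))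
  simp only [Category.assoc] at h
  rw [psi_fst, show (lift f (𝟙 P)).left ≫ (fst X P).left = f.left from by rw [← Over.comp_left, lift_fst]] at h
  exact h

theorem stGP_snd : stGP a f ≫ (snd G P).left = GLinSh.stabTo a f := by
  have h := congrArg (· ≫ (snd X P).left) (pullback.condition (f := (GIT.psi a f).left) (g := (lift f (𝟙 P)).left))
  simp only [Category.assoc] at h
  rw [psi_snd, show (lift f (𝟙 P)).left ≫ (snd X P).left = 𝟙 P.left from by
    rw [← Over.comp_left, lift_snd, Over.id_left], Category.comp_id] at h
  exact h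

/-- The stabiliser inside `G × X`. -/
def stGX : GLinSh.stab a f ⟶ (G ⊗ X).left := stGP a f ≫ (G ◁ f).left

theorem stGX_act : stGX a f ≫ a.act.left = GLinSh.stabTo a f ≫ f.left := by
  rw [stGX, Category.assoc, stGP_act]

theorem stGX_snd : stGX a f ≫ (snd G X).left = GLinSh.stabTo a f ≫ f.left := by
  rw [stGX, Category.assoc, ← Over.comp_left, whiskerLeft_snd, Over.comp_left, ← Category.assoc, stGP_snd]

theorem prGP_cond : (pullback.fst (stToX a) f.left ≫ stIncl a ≫ (fst G X).left) ≫ G.hom =
    pullback.snd (stToX a) f.left ≫ P.hom := by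
  rw [Category.assoc, Category.assoc, Over.w (fst G X), ← Over.w (snd G X), ← Category.assoc (stIncl a),
    H98EqInt.stIncl_snd, ← Category.assoc, pullback.condition, Category.assoc, Over.w f]

/-- The pulled back stabiliser inside `G × P`. -/
def prGP : pullback (stToX a) f.left ⟶ (G ⊗ P).left :=
  pullback.lift (pullback.fst (stToX a) f.left ≫ stIncl a ≫ (fst G X).left) (pullback.snd (stToX a) f.left)
    (prGP_cond a f)

theorem prGP_fst : prGP a f ≫ (fst G P).left = pullback.fst (stToX a) f.left ≫ stIncl a ≫ (fst G X).left :=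
  pullback.lift_fst _ _ _

theorem prGP_snd : prGP a f ≫ (snd G P).left = pullback.snd (stToX a) f.left :=
  pullback.lift_snd _ _ _

theorem prGP_whisker : prGP a f ≫ (G ◁ f).left = pullback.fst (stToX a) f.left ≫ stIncl a := by
  apply pullback.hom_ext
  · show (_ ≫ (G ◁ f).left) ≫ (fst G X).left = (_ ≫ stIncl a) ≫ (fst G X).left
    rw [Category.assoc, ← Over.comp_left, whiskerLeft_fst, prGP_fst, Category.assoc]
  · show (_ ≫ (G ◁ f).left) ≫ (snd G X).left = (_ ≫ stIncl a) ≫ (snd G X).left
    rw [Category.assoc, ← Over.comp_left, whiskerLeft_snd, Over.comp_left, ← Category.assoc, prGP_snd, Category.assoc,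
      H98EqInt.stIncl_snd, pullback.condition]

theorem prGP_psi : prGP a f ≫ (GIT.psi a f).left = pullback.snd (stToX a) f.left ≫ (lift f (𝟙 P)).left := by
  apply pullback.hom_ext
  · show (_ ≫ (GIT.psi a f).left) ≫ (fst X P).left = (_ ≫ (lift f (𝟙 P)).left) ≫ (fst X P).left
    rw [Category.assoc, psi_fst, ← Category.assoc, prGP_whisker, Category.assoc, H98EqInt.stIncl_act, Category.assoc,
      ← Over.comp_left, lift_fst, pullback.condition]
  · show (_ ≫ (GIT.psi a f).left) ≫ (snd X P).left = (_ ≫ (lift f (𝟙 P)).left) ≫ (snd X P).left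
    rw [Category.assoc, psi_snd, prGP_snd, Category.assoc, ← Over.comp_left, lift_snd, Over.id_left, Category.comp_id]

/-- The inverse morphism. -/
def invHom : pullback (stToX a) f.left ⟶ GLinSh.stab a f :=
  pullback.lift (prGP a f) (pullback.snd (stToX a) f.left) (prGP_psi a f)

theorem invHom_stGP : invHom a f ≫ stGP a f = prGP a f := pullback.lift_fst _ _ _

theorem invHom_stabTo : invHom a f ≫ GLinSh.stabTo a f = pullback.snd (stToX a) f.left := pullback.lift_snd _ _ _

/-- The stabiliser of a point is the pullback of the stabiliser scheme. -/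
def stabIso : GLinSh.stab a f ≅ pullback (stToX a) f.left where
  hom := pullback.lift
    (pullback.lift (stGX a f) (GLinSh.stabTo a f ≫ f.left) (st_cond a _ _ (stGX_act a f) (stGX_snd a f)))
    (GLinSh.stabTo a f) (pullback.lift_snd _ _ _)
  inv := invHom a f
  hom_inv_id := by
    apply pullback.hom_ext
    · show (_ ≫ _) ≫ stGP a f = 𝟙 _ ≫ stGP a f
      rw [Category.assoc]
      rw [invHom_stGP]
      rw [Category.id_comp]
      apply pullback.hom_ext
      · show (_ ≫ prGP a f) ≫ (fst G P).left = stGP a f ≫ (fst G P).left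
        rw [Category.assoc, prGP_fst, pullback.lift_fst_assoc, pullback.lift_fst_assoc, stGX, Category.assoc,
          ← Over.comp_left, whiskerLeft_fst]
      · show (_ ≫ prGP a f) ≫ (snd G P).left = stGP a f ≫ (snd G P).left
        rw [Category.assoc, prGP_snd, pullback.lift_snd, stGP_snd]
    · show (_ ≫ _) ≫ GLinSh.stabTo a f = 𝟙 _ ≫ GLinSh.stabTo a f
      rw [Category.assoc]
      rw [invHom_stabTo, pullback.lift_snd]
      rw [Category.id_comp]
  inv_hom_id := by
    have e1 := invHom_stabTo a f
    have e2 : invHom a f ≫ stGX a f = pullback.fst (stToX a) f.left ≫ stIncl a := by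
      rw [stGX, ← Category.assoc, invHom_stGP, prGP_whisker]
    apply pullback.hom_ext
    · rw [Category.assoc, pullback.lift_fst, Category.id_comp]
      apply pullback.hom_ext
      · rw [Category.assoc, pullback.lift_fst]
        exact e2
      · rw [Category.assoc, pullback.lift_snd]
        refine ((Category.assoc _ _ _).symm.trans (congrArg (· ≫ f.left) e1)).trans ?_
        exact pullback.condition.symm
    · rw [Category.assoc, pullback.lift_snd, Category.id_comp]
      exact e1

end Groth.Agent.GIT36.Stab
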